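import Mathlib.AlgebraicGeometry.Morphisms.Proper
import Mathlib.AlgebraicGeometry.IdealSheaf.Subscheme
import Mathlib.AlgebraicGeometry.Fiber
import Groth.Agent.Stein.K469.Integral

/-!
# Properness of a subset over a base point, and preconnected sets in the fibres of integral morphisms
-/

set_option autoImplicit false
universe u

open AlgebraicGeometry CategoryTheory Limits

namespace K129.ProperAt

/-- Let `f` be separated, `U` an open of the base and `a : P ⟶ X` a morphism with range
`C ∩ f⁻¹(U)` such that `P` is proper over `U`. Then `C ∩ f⁻¹(U)` is closed in `f⁻¹(U)` and proper over `U`. -/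
theorem of_proper_cover {X Y : Scheme.{u}} (f : X ⟶ Y) [IsSeparated f] [LocallyOfFiniteType f]
    (C : Set X) (U : Y.Opens) {P : Scheme.{u}} (a : P ⟶ X) (b : P ⟶ (U : Scheme.{u}))
    (hab : a ≫ f = b ≫ U.ι) [IsProper b] (hr : Set.range a = C ∩ f ⁻¹' (U : Set Y)) :
    ∃ hC : IsClosed ((f ⁻¹ᵁ U).ι.base ⁻¹' C),
      IsProper ((Scheme.IdealSheafData.vanishingIdeal
        (⟨(f ⁻¹ᵁ U).ι.base ⁻¹' C, hC⟩ : TopologicalSpace.Closeds ↥(f ⁻¹ᵁ U))).subschemeι ≫
        (f ∣_ U)) := by
  have hra : Set.range a ⊆ Set.range (f ⁻¹ᵁ U).ι := by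
    rw [hr, Scheme.Opens.range_ι]
    exact fun x hx => hx.2
  let a' : P ⟶ (f ⁻¹ᵁ U : Scheme.{u}) := IsOpenImmersion.lift (f ⁻¹ᵁ U).ι a hra
  have ha' : a' ≫ (f ⁻¹ᵁ U).ι = a := IsOpenImmersion.lift_fac _ _ _
  have hb : a' ≫ (f ∣_ U) = b := by
    rw [← cancel_mono U.ι, Category.assoc, morphismRestrict_ι, reassoc_of% ha', hab]
  have hpa : IsProper a' := by
    have : IsProper (a' ≫ (f ∣_ U)) := by rw [hb]; infer_instance
    exact IsProper.of_comp a' (f ∣_ U)
  have hrange : Set.range a' = (f ⁻¹ᵁ U).ι.base ⁻¹' C := by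
    ext x
    constructor
    · rintro ⟨p, rfl⟩
      have : a p ∈ Set.range a := ⟨p, rfl⟩
      rw [hr] at this
      have h1 : (f ⁻¹ᵁ U).ι (a' p) = a p := by rw [← Scheme.Hom.comp_apply, ha']
      rw [Set.mem_preimage]
      erw [h1]
      exact this.1
    · intro hx
      have : (f ⁻¹ᵁ U).ι x ∈ Set.range a := by
        rw [hr]
        exact ⟨hx, x.2⟩
      obtain ⟨p, hp⟩ := this
      refine ⟨p, (f ⁻¹ᵁ U).ι.isOpenEmbedding.injective ?_⟩
      rw [← hp, ← Scheme.Hom.comp_apply, ha']
  have hC : IsClosed ((f ⁻¹ᵁ U).ι.base ⁻¹' C) := by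
    rw [← hrange]
    exact a'.isClosedMap.isClosed_range
  refine ⟨hC, ?_⟩
  let Z : TopologicalSpace.Closeds ↥(f ⁻¹ᵁ U) := ⟨(f ⁻¹ᵁ U).ι.base ⁻¹' C, hC⟩
  let i := (Scheme.IdealSheafData.vanishingIdeal (X := (f ⁻¹ᵁ U : Scheme.{u})) Z).subschemeι
  have hri : Set.range i = (f ⁻¹ᵁ U).ι.base ⁻¹' C := by
    rw [Scheme.IdealSheafData.range_subschemeι]
    exact Scheme.IdealSheafData.coe_support_vanishingIdeal (X := (f ⁻¹ᵁ U : Scheme.{u})) Z
  have hsurj : Surjective (pullback.snd a' i) := by
    refine ⟨fun z => ?_⟩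
    have : i z ∈ Set.range a' := by rw [hrange, ← hri]; exact ⟨z, rfl⟩
    obtain ⟨p, hp⟩ := this
    obtain ⟨w, _, hw⟩ := Scheme.Pullback.exists_preimage_pullback p z hp
    exact ⟨w, hw⟩
  have h1 : pullback.snd a' i ≫ i ≫ (f ∣_ U) = pullback.fst a' i ≫ b := by
    rw [← pullback.condition_assoc, hb]
  have h2 : UniversallyClosed (pullback.snd a' i ≫ i ≫ (f ∣_ U)) := by
    rw [h1]; infer_instance
  have h3 : UniversallyClosed (i ≫ (f ∣_ U)) := UniversallyClosed.of_comp_surjective (pullback.snd a' i) _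
  exact { __ := (inferInstance : IsSeparated (i ≫ (f ∣_ U)))
          __ := h3
          __ := (inferInstance : LocallyOfFiniteType (i ≫ (f ∣_ U))) }

/-- A preconnected subset of a fibre of an integral morphism has at most one point. -/
theorem subsingleton_of_isPreconnected {N Y : Scheme.{u}} (q : N ⟶ Y) [IsIntegralHom q] (y : Y) (S : Set N)
    (hS : _root_.IsPreconnected S) (hSy : S ⊆ q ⁻¹' {y}) : S.Subsingleton := by
  -- the preimage of `S` in the fibre
  have hemb : Topology.IsEmbedding (q.fiberι y) := (q.fiberι y).isEmbedding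
  have hrng : Set.range (q.fiberι y) = q ⁻¹' {y} := q.range_fiberι y
  let S' : Set (q.fiber y) := (q.fiberι y) ⁻¹' S
  have hS' : _root_.IsPreconnected S' := by
    have himg : (q.fiberι y) '' S' = S := by
      rw [Set.image_preimage_eq_inter_range, hrng, Set.inter_eq_left]
      exact hSy
    exact (hemb.isInducing.isPreconnected_image).mp (by rw [himg]; exact hS)
  -- closed subscheme carried by the closure
  let Z : TopologicalSpace.Closeds (q.fiber y) := ⟨closure S', isClosed_closure⟩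
  let i := (Scheme.IdealSheafData.vanishingIdeal Z).subschemeι
  have hri : Set.range i = closure S' := by
    rw [Scheme.IdealSheafData.range_subschemeι]
    simp [Z]
  have hpc : PreconnectedSpace ↥(Scheme.IdealSheafData.vanishingIdeal Z).subscheme := by
    constructor
    rw [← i.isEmbedding.isInducing.isPreconnected_image, Set.image_univ, hri]
    exact hS'.closure
  have : IsIntegralHom (q.fiberToSpecResidueField y) :=
    inferInstanceAs (IsIntegralHom (pullback.snd _ _))
  have hsub : Subsingleton ↥(Scheme.IdealSheafData.vanishingIdeal Z).subscheme :=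
    K469.Integral.subsingleton_of_isIntegralHom (K := Y.residueField y) (i ≫ q.fiberToSpecResidueField y)
  intro s hs t ht
  obtain ⟨s', rfl⟩ : s ∈ Set.range (q.fiberι y) := by rw [hrng]; exact hSy hs
  obtain ⟨t', rfl⟩ : t ∈ Set.range (q.fiberι y) := by rw [hrng]; exact hSy ht
  obtain ⟨s'', hs''⟩ : s' ∈ Set.range i := by rw [hri]; exact subset_closure hs
  obtain ⟨t'', ht''⟩ : t' ∈ Set.range i := by rw [hri]; exact subset_closure ht
  rw [← hs'', ← ht'', Subsingleton.elim s'' t'']

end K129.ProperAt
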