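import Groth.Agent.EGA43.K129.ProperAt
import Groth.Agent.S0384
import Groth.Agent.S0388
import Groth.Agent.S1324

/-!
# Section components which are proper at a point, through a compactification and the Stein factorization
-/

set_option autoImplicit false
universe u

open AlgebraicGeometry CategoryTheory Limits

namespace K129.SteinSection

/-- Topological core: `X ⊆ X̄` open, `h : X̄ ⟶ N` closed with preconnected fibres, `q : N ⟶ Y` with
fibres in which preconnected sets are points. -/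
theorem main {X Y : Scheme.{u}} [CompactSpace Y] [QuasiSeparatedSpace Y] (f : X ⟶ Y) [IsSeparated f]
    [LocallyOfFiniteType f] [QuasiCompact f] (g : Y ⟶ X) (hg : g ≫ f = 𝟙 Y) (y : Y)
    (W : Set X) (hWo : IsOpen W) (hW : W ∩ f ⁻¹' {y} = MoreMor.sectionComponents f g ∩ f ⁻¹' {y})
    {Q S : Scheme.{u}} (c : Q ⟶ X) (k : Q ⟶ S) (e : S ⟶ Y) [IsPreimmersion e] (he : Set.range e = {y})
    (hck : c ≫ f = k ≫ e) [IsProper k] (hc : Set.range c = MoreMor.sectionComponents f g ∩ f ⁻¹' {y}) :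
    ∃ (U : Y.Opens) (P : Scheme.{u}) (a : P ⟶ X) (b : P ⟶ (U : Scheme.{u})), y ∈ U ∧ a ≫ f = b ≫ U.ι ∧
      IsProper b ∧ Set.range a = MoreMor.sectionComponents f g ∩ f ⁻¹' (U : Set Y) := by
  obtain ⟨Xc, j, p, hj, hqc, hp, hjp⟩ := Groth.Agent.S0384.result f
  set h := p.toNormalization with hh
  set q := p.fromNormalization with hq
  have hhq : h ≫ q = p := p.toNormalization_fromNormalization
  have hph : IsProper h := by
    have : IsProper (h ≫ q) := by rw [hhq]; exact hp
    exact IsProper.of_comp h q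
  have hgc : GeometricallyConnected h := (Groth.Agent.S0388.result p).1
  have hconn : ∀ n, _root_.IsPreconnected (h ⁻¹' {n}) := by
    intro n
    have h1 : ConnectedSpace ↥(h.fiber n) := inferInstance
    have h2 := isPreconnected_range (h.fiberι n).continuous
    rwa [h.range_fiberι] at h2
  set σ : Y ⟶ p.normalization := g ≫ j ≫ h with hσd
  have hσ : σ ≫ q = 𝟙 Y := by
    rw [hσd, Category.assoc, Category.assoc, hhq, hjp, hg]
  have hσt : ∀ t, σ t = h (j (g t)) := fun t => by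
    rw [hσd, Scheme.Hom.comp_apply, Scheme.Hom.comp_apply]
  have hqh : ∀ x, q (h x) = p x := fun x => by rw [← Scheme.Hom.comp_apply, hhq]
  have hpj : ∀ x, p (j x) = f x := fun x => by rw [← Scheme.Hom.comp_apply, hjp]
  have hfg : ∀ t, f (g t) = t := fun t => by rw [← Scheme.Hom.comp_apply, hg]; rfl
  -- points of the component map to `σ t`
  have hA : ∀ x, x ∈ MoreMor.sectionComponents f g → h (j x) = σ (f x) := by
    intro x hx
    have hx' : x ∈ connectedComponentIn (f ⁻¹' {f x}) (g (f x)) := hx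
    have hpre : _root_.IsPreconnected ((fun z => h (j z)) '' connectedComponentIn (f ⁻¹' {f x}) (g (f x))) :=
      isPreconnected_connectedComponentIn.image _ (h.continuous.comp j.continuous).continuousOn
    have hsub := ProperAt.subsingleton_of_isPreconnected q (f x) _ hpre (by
      rintro _ ⟨z, hz, rfl⟩
      have := connectedComponentIn_subset _ _ hz
      simp only [Set.mem_preimage, Set.mem_singleton_iff] at this ⊢
      rw [hqh, hpj, this])
    rw [hσt]
    exact hsub ⟨x, hx', rfl⟩ ⟨g (f x), mem_connectedComponentIn (hfg _), rfl⟩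
  have hB : ∀ t, (∀ z, h z = σ t → z ∈ Set.range j) → ∀ x, h (j x) = σ t →
      x ∈ MoreMor.sectionComponents f g := by
    intro t ht x hx
    have hfx : f x = t := by
      rw [← hpj, ← hqh, hx, ← Scheme.Hom.comp_apply, hσ]; rfl
    have hpre : _root_.IsPreconnected (j ⁻¹' (h ⁻¹' {σ t})) := by
      rw [← j.isEmbedding.isInducing.isPreconnected_image, Set.image_preimage_eq_inter_range,
        Set.inter_eq_left.mpr (show h ⁻¹' {σ t} ⊆ Set.range j from fun z hz => ht z hz)]
      exact hconn _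
    have h1 : j ⁻¹' (h ⁻¹' {σ t}) ⊆ f ⁻¹' {t} := by
      intro z hz
      simp only [Set.mem_preimage, Set.mem_singleton_iff] at hz ⊢
      rw [← hpj, ← hqh, hz, ← Scheme.Hom.comp_apply, hσ]; rfl
    have h2 : g t ∈ j ⁻¹' (h ⁻¹' {σ t}) := by
      simp only [Set.mem_preimage, Set.mem_singleton_iff]
      rw [hσt]
    have h3 := hpre.subset_connectedComponentIn h2 h1
    change x ∈ connectedComponentIn (f ⁻¹' {f x}) (g (f x))
    rw [hfx]
    exact h3 hx
  -- the fibre of `h` over `σ y` lies in `X`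
  have hgy : g y ∈ MoreMor.sectionComponents f g ∩ f ⁻¹' {y} := by
    refine ⟨?_, hfg y⟩
    change g y ∈ connectedComponentIn (f ⁻¹' {f (g y)}) (g (f (g y)))
    rw [hfg]
    exact mem_connectedComponentIn (hfg _)
  have hCy : ∀ z, h z = σ y → z ∈ j '' (MoreMor.sectionComponents f g ∩ f ⁻¹' {y}) := by
    -- closedness of the image in the fibre of `p`
    let m : pullback p e ⟶ Xc := pullback.fst p e
    have hm : Topology.IsEmbedding m := m.isEmbedding
    let r : Q ⟶ pullback p e := pullback.lift (c ≫ j) k (by rw [Category.assoc, hjp, hck])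
    have hr : IsProper r := by
      have h1 : r ≫ pullback.snd p e = k := pullback.lift_snd _ _ _
      have : IsProper (r ≫ pullback.snd p e) := by rw [h1]; infer_instance
      exact IsProper.of_comp r (pullback.snd p e)
    have hrm : r ≫ m = c ≫ j := pullback.lift_fst _ _ _
    obtain ⟨K, hK, hKr⟩ := (hm.isInducing.isClosed_iff).mp r.isClosedMap.isClosed_range
    have hK1 : ∀ x ∈ MoreMor.sectionComponents f g ∩ f ⁻¹' {y}, j x ∈ K := by
      intro x hx
      rw [← hc] at hx
      obtain ⟨w, rfl⟩ := hx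
      have : r w ∈ m ⁻¹' K := by rw [hKr]; exact ⟨w, rfl⟩
      have h2 : m (r w) = j (c w) := by
        rw [← Scheme.Hom.comp_apply, hrm, Scheme.Hom.comp_apply]
      rw [← h2]
      exact this
    have hK2 : ∀ z ∈ K, p z = y → z ∈ j '' (MoreMor.sectionComponents f g ∩ f ⁻¹' {y}) := by
      intro z hz hpz
      have hye : y ∈ Set.range e := by rw [he]; rfl
      obtain ⟨s, hs⟩ := hye
      obtain ⟨w, hw, _⟩ := Scheme.Pullback.exists_preimage_pullback (f := p) (g := e) z s (by rw [hpz, hs])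
      have h1 : w ∈ m ⁻¹' K := by
        change m w ∈ K
        rw [hw]; exact hz
      rw [hKr] at h1
      obtain ⟨v, hv⟩ := h1
      refine ⟨c v, by rw [← hc]; exact ⟨v, rfl⟩, ?_⟩
      rw [← Scheme.Hom.comp_apply, ← hrm, Scheme.Hom.comp_apply, hv]
      exact hw
    have hjW : IsOpen (j '' W) := j.isOpenEmbedding.isOpenMap W hWo
    intro z hz
    have hpz : ∀ z, h z = σ y → p z = y := fun z hz => by
      rw [← hqh, hz, ← Scheme.Hom.comp_apply, hσ]; rfl
    have hsub : h ⁻¹' {σ y} ⊆ K := by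
      by_contra hcon
      rw [Set.not_subset] at hcon
      obtain ⟨z', hz', hz'K⟩ := hcon
      obtain ⟨v, hv, hvW, hvK⟩ := hconn (σ y) (j '' W) Kᶜ hjW hK.isOpen_compl (by
        intro v hv
        by_cases hvK : v ∈ K
        · left
          obtain ⟨x, hx, rfl⟩ := hK2 v hvK (hpz v hv)
          rw [← hW] at hx
          exact ⟨x, hx.1, rfl⟩
        · right; exact hvK) ⟨j (g y), (hσt y).symm, ⟨g y, by
            have := hgy
            rw [← hW] at this
            exact this.1, rfl⟩⟩ ⟨z', hz', hz'K⟩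
      obtain ⟨x, hxW, rfl⟩ := hvW
      have hfx : f x = y := by rw [← hpj]; exact hpz _ hv
      have : x ∈ W ∩ f ⁻¹' {y} := ⟨hxW, hfx⟩
      rw [hW] at this
      exact hvK (hK1 x this)
    exact hK2 z (hsub hz) (hpz z hz)
  -- the open set
  have hTc : IsClosed (h '' (Set.range j)ᶜ) :=
    h.isClosedMap _ (j.isOpenEmbedding.isOpen_range.isClosed_compl)
  let U : Y.Opens := ⟨σ ⁻¹' (h '' (Set.range j)ᶜ)ᶜ, hTc.isOpen_compl.preimage σ.continuous⟩
  have hU : ∀ t, t ∈ U → ∀ z, h z = σ t → z ∈ Set.range j := by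
    intro t ht z hz
    by_contra hcon
    exact ht ⟨z, hcon, hz⟩
  have hyU : y ∈ U := by
    rintro ⟨z, hz, hzy⟩
    obtain ⟨x, _, rfl⟩ := hCy z hzy
    exact hz ⟨x, rfl⟩
  have hσc : IsClosedImmersion σ := by
    have : IsClosedImmersion (σ ≫ q) := by rw [hσ]; infer_instance
    exact IsClosedImmersion.of_comp σ q
  let D : TopologicalSpace.Closeds Xc :=
    ⟨h ⁻¹' Set.range σ, σ.isClosedEmbedding.isClosed_range.preimage h.continuous⟩
  let i := (Scheme.IdealSheafData.vanishingIdeal D).subschemeι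
  have hri : Set.range i = h ⁻¹' Set.range σ := by
    rw [Scheme.IdealSheafData.range_subschemeι]
    simp [D]
  let P : Scheme.{u} := ((i ≫ p) ⁻¹ᵁ U : _)
  let b : P ⟶ (U : Scheme.{u}) := (i ≫ p) ∣_ U
  have hrP : Set.range (((i ≫ p) ⁻¹ᵁ U).ι ≫ i) = {z | h z ∈ Set.range σ ∧ p z ∈ U} := by
    ext z
    constructor
    · rintro ⟨w, rfl⟩
      refine ⟨?_, ?_⟩
      · have : i (((i ≫ p) ⁻¹ᵁ U).ι w) ∈ Set.range i := ⟨_, rfl⟩
        rw [hri] at this
        rw [Scheme.Hom.comp_apply]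
        exact this
      · have := w.2
        rw [Scheme.Hom.comp_apply]
        exact this
    · rintro ⟨h1, h2⟩
      have : z ∈ Set.range i := by rw [hri]; exact h1
      obtain ⟨w, rfl⟩ := this
      exact ⟨⟨w, h2⟩, rfl⟩
  have hσp : ∀ z t, h z = σ t → p z = t := fun z t hz => by
    rw [← hqh, hz, ← Scheme.Hom.comp_apply, hσ]; rfl
  have hPj : Set.range (((i ≫ p) ⁻¹ᵁ U).ι ≫ i) ⊆ Set.range j := by
    rw [hrP]
    rintro z ⟨⟨t, ht⟩, hz⟩
    have hpt : p z = t := hσp z t ht.symm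
    exact hU t (by rw [← hpt]; exact hz) z ht.symm
  let a : P ⟶ X := IsOpenImmersion.lift j (((i ≫ p) ⁻¹ᵁ U).ι ≫ i) hPj
  have haj : a ≫ j = ((i ≫ p) ⁻¹ᵁ U).ι ≫ i := IsOpenImmersion.lift_fac _ _ _
  refine ⟨U, P, a, b, hyU, ?_, inferInstance, ?_⟩
  · rw [← hjp, reassoc_of% haj]
    exact (morphismRestrict_ι _ _).symm
  · ext x
    have hxa : x ∈ Set.range a ↔ j x ∈ Set.range (((i ≫ p) ⁻¹ᵁ U).ι ≫ i) := by
      rw [← haj]
      constructor
      · rintro ⟨w, rfl⟩; exact ⟨w, rfl⟩
      · rintro ⟨w, hw⟩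
        exact ⟨w, j.isOpenEmbedding.injective (by rw [← hw]; rfl)⟩
    rw [hxa, hrP]
    constructor
    · rintro ⟨⟨t, ht⟩, hx⟩
      have hpt : p (j x) = t := hσp _ t ht.symm
      have htU : t ∈ U := by rw [← hpt]; exact hx
      refine ⟨hB t (hU t htU) x ht.symm, ?_⟩
      change f x ∈ U
      rw [← hpj]; exact hx
    · rintro ⟨h1, h2⟩
      refine ⟨⟨f x, (hA x h1).symm⟩, ?_⟩
      rw [hpj]; exact h2

end K129.SteinSection

namespace K129.SteinSection

/-- The same over an arbitrary base. -/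
theorem general {X Y : Scheme.{u}} (f : X ⟶ Y) [IsSeparated f]
    [LocallyOfFiniteType f] [QuasiCompact f] (g : Y ⟶ X) (hg : g ≫ f = 𝟙 Y) (y : Y)
    (W : Set X) (hWo : IsOpen W) (hW : W ∩ f ⁻¹' {y} = MoreMor.sectionComponents f g ∩ f ⁻¹' {y})
    {Q S : Scheme.{u}} (c : Q ⟶ X) (k : Q ⟶ S) (e : S ⟶ Y) [IsPreimmersion e] (he : Set.range e = {y})
    (hck : c ≫ f = k ≫ e) [IsProper k] (hc : Set.range c = MoreMor.sectionComponents f g ∩ f ⁻¹' {y}) :
    ∃ (U : Y.Opens) (P : Scheme.{u}) (a : P ⟶ X) (b : P ⟶ (U : Scheme.{u})), y ∈ U ∧ a ≫ f = b ≫ U.ι ∧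
      IsProper b ∧ Set.range a = MoreMor.sectionComponents f g ∩ f ⁻¹' (U : Set Y) := by
  obtain ⟨V, hV, hyV, -⟩ := exists_isAffineOpen_mem_and_subset (x := y) (U := ⊤) (Set.mem_univ y)
  have : IsAffine (V : Scheme.{u}) := hV
  let ι := (f ⁻¹ᵁ V).ι
  have hgr : Set.range (V.ι ≫ g) ⊆ Set.range ι := by
    rintro _ ⟨t, rfl⟩
    rw [Scheme.Opens.range_ι]
    change f ((V.ι ≫ g) t) ∈ V
    rw [← Scheme.Hom.comp_apply, Category.assoc, hg, Category.comp_id]
    exact t.2
  let g' : (V : Scheme.{u}) ⟶ (f ⁻¹ᵁ V : Scheme.{u}) := IsOpenImmersion.lift ι (V.ι ≫ g) hgr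
  have hg' : g' ≫ ι = V.ι ≫ g := IsOpenImmersion.lift_fac _ _ _
  have hg'f : g' ≫ (f ∣_ V) = 𝟙 _ := by
    rw [← cancel_mono V.ι, Category.assoc, morphismRestrict_ι, reassoc_of% hg', hg]
    simp
  have hsc := Groth.Agent.S1324.result f g hg (f ∣_ V) ι V.ι (isPullback_morphismRestrict f V).flip g' hg'f hg'
  let y' : (V : Scheme.{u}) := ⟨y, hyV⟩
  have hVι : ∀ x, V.ι ((f ∣_ V) x) = f (ι x) := fun x => by
    rw [← Scheme.Hom.comp_apply, morphismRestrict_ι, Scheme.Hom.comp_apply]
  have hpre : ∀ x, ((f ∣_ V) x = y') ↔ f (ι x) = y := by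
    intro x
    have h1 := hVι x
    constructor
    · intro h
      rw [← h1, h]; rfl
    · intro h
      apply V.ι.isOpenEmbedding.injective
      rw [h1, h]; rfl
  have hcr : Set.range c ⊆ Set.range ι := by
    rw [hc, Scheme.Opens.range_ι]
    rintro x ⟨_, hx⟩
    change f x ∈ V
    rw [hx]; exact hyV
  let c' : Q ⟶ (f ⁻¹ᵁ V : Scheme.{u}) := IsOpenImmersion.lift ι c hcr
  have hc' : c' ≫ ι = c := IsOpenImmersion.lift_fac _ _ _
  have her : Set.range e ⊆ Set.range V.ι := by
    rw [he, Scheme.Opens.range_ι]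
    rintro x rfl
    exact hyV
  let e' : S ⟶ (V : Scheme.{u}) := IsOpenImmersion.lift V.ι e her
  have he' : e' ≫ V.ι = e := IsOpenImmersion.lift_fac _ _ _
  have hpe : IsPreimmersion e' := by
    have : IsPreimmersion (e' ≫ V.ι) := by rw [he']; infer_instance
    exact IsPreimmersion.of_comp e' V.ι
  have hrx : ∀ x, x ∈ Set.range c' ↔ ι x ∈ Set.range c := by
    intro x
    constructor
    · rintro ⟨w, rfl⟩
      exact ⟨w, by rw [← Scheme.Hom.comp_apply, hc']⟩
    · rintro ⟨w, hw⟩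
      refine ⟨w, ι.isOpenEmbedding.injective ?_⟩
      rw [← hw, ← Scheme.Hom.comp_apply, hc']
  obtain ⟨U', P, a, b, hyU, hab, hb, hra⟩ := main (f ∣_ V) g' hg'f y' (ι ⁻¹' W)
    (hWo.preimage ι.continuous) (by
      ext x
      have h1 : (ι x ∈ W ∩ f ⁻¹' {y}) ↔ (ι x ∈ MoreMor.sectionComponents f g ∩ f ⁻¹' {y}) := by rw [hW]
      rw [hsc]
      simp only [Set.mem_inter_iff, Set.mem_preimage, Set.mem_singleton_iff] at h1 ⊢
      rw [hpre]
      exact h1) c' k e' (by
      ext t
      constructor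
      · rintro ⟨s, rfl⟩
        apply V.ι.isOpenEmbedding.injective
        have : e s ∈ Set.range e := ⟨s, rfl⟩
        rw [he] at this
        rw [← Scheme.Hom.comp_apply, he']
        exact this
      · rintro rfl
        have : y ∈ Set.range e := by rw [he]; rfl
        obtain ⟨s, hs⟩ := this
        refine ⟨s, V.ι.isOpenEmbedding.injective ?_⟩
        rw [← Scheme.Hom.comp_apply, he']
        exact hs) (by
      rw [← cancel_mono V.ι, Category.assoc, Category.assoc, morphismRestrict_ι, reassoc_of% hc', he', hck]) (by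
      ext x
      rw [hrx, hc, hsc]
      simp only [Set.mem_inter_iff, Set.mem_preimage, Set.mem_singleton_iff]
      rw [hpre])
  refine ⟨V.ι ''ᵁ U', P, a ≫ ι, b ≫ (V.ι.isoImage U').hom, ⟨y', hyU, rfl⟩, ?_, inferInstance, ?_⟩
  · rw [Category.assoc, Category.assoc, Scheme.Hom.isoImage_hom_ι, ← reassoc_of% hab, morphismRestrict_ι]
  · ext x
    constructor
    · rintro ⟨w, rfl⟩
      have h1 : a w ∈ Set.range a := ⟨w, rfl⟩
      rw [hra, hsc] at h1
      refine ⟨by rw [Scheme.Hom.comp_apply]; exact h1.1, ?_⟩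
      exact ⟨(f ∣_ V) (a w), h1.2, hVι (a w)⟩
    · rintro ⟨h1, ⟨t, ht, htx⟩⟩
      have hxV : f x ∈ V := by rw [← htx]; exact t.2
      obtain ⟨x', hx'⟩ : x ∈ Set.range ι := by rw [Scheme.Opens.range_ι]; exact hxV
      have h2 : x' ∈ Set.range a := by
        rw [hra, hsc]
        refine ⟨by rw [Set.mem_preimage, hx']; exact h1, ?_⟩
        change (f ∣_ V) x' ∈ U'
        have : (f ∣_ V) x' = t := by
          apply V.ι.isOpenEmbedding.injective
          rw [hVι, hx']
          exact htx.symm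
        rw [this]; exact ht
      obtain ⟨w, hw⟩ := h2
      exact ⟨w, by rw [Scheme.Hom.comp_apply, hw, hx']⟩

end K129.SteinSection
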