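import Groth.Agent.S1366
import Groth.Agent.EGA43.K891.CplDvrExt
import Groth.Agent.Ega43.DvrScheme
import Groth.Agent.Ega43.OpenAt
import Mathlib.RingTheory.Henselian

/-!
# Fibrewise open and closed subsets of proper schemes and specialization

Let `p : P ⟶ Y` be proper, `S ⊆ P` a subset whose trace on the fibre `p⁻¹(y₀)` is open and closed there
and which is submersive and has connected generic fibre after every base change to a discrete
valuation ring with closed point over `y₀`. Then the specializations of points of `S` lying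
over `y₀` belong to `S`.
-/

set_option autoImplicit false
universe u

open AlgebraicGeometry CategoryTheory Limits IsLocalRing

namespace K129.SubmClaim

open Groth.Agent.S1366 Groth.Agent.Ega43

theorem VI_maximalIdeal (B : Type u) [CommRing B] [IsLocalRing B] :
    VI (maximalIdeal B) = {(closedPoint B : ↥(Spec (CommRingCat.of B)))} := by
  ext t
  let t' : PrimeSpectrum B := t
  constructor
  · intro ht
    have h1 : maximalIdeal B ≤ t'.asIdeal := ht
    have h2 : t' = closedPoint B := by
      apply PrimeSpectrum.ext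
      exact ((maximalIdeal.isMaximal B).eq_of_le t'.2.ne_top h1).symm
    exact h2
  · intro ht
    have h2 : t' = closedPoint B := ht
    change ((maximalIdeal B : Ideal B) : Set B) ⊆ (t'.asIdeal : Set B)
    rw [h2]
    exact le_rfl

/-- A subset whose trace on the closed fibre is open and closed there lifts to a clopen subset. -/
theorem exists_clopen {B : Type u} [CommRing B] [IsLocalRing B] [HenselianRing B (maximalIdeal B)]
    {P : Scheme.{u}} (q : P ⟶ Spec (CommRingCat.of B)) [IsProper q] (S : Set P)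
    (h1 : IsClosed (S ∩ q ⁻¹' {(closedPoint B : ↥(Spec (CommRingCat.of B)))}))
    (h2 : IsClosed (Sᶜ ∩ q ⁻¹' {(closedPoint B : ↥(Spec (CommRingCat.of B)))})) :
    ∃ D : Set P, IsClopen D ∧ ∀ x, q x = closedPoint B → (x ∈ D ↔ x ∈ S) := by
  obtain ⟨W, hW, hYW, hY'W⟩ := exists_clopen_proper (maximalIdeal B) q _ _ h1 h2
    (by
      rw [Set.disjoint_left]
      rintro x ⟨h, -⟩ ⟨h', -⟩
      exact h' h)
    (by rw [← Set.union_inter_distrib_right, Set.union_compl_self, Set.univ_inter,
      VI_maximalIdeal])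
  refine ⟨W, hW, fun x hx => ⟨fun h => ?_, fun h => hYW ⟨h, hx⟩⟩⟩
  by_contra hn
  exact Set.disjoint_left.mp hY'W ⟨hn, hx⟩ h

/-- The main claim over a complete discrete valuation ring. -/
theorem mem_of_section {B : Type u} [CommRing B] [IsDomain B] [IsDiscreteValuationRing B]
    [HenselianRing B (maximalIdeal B)]
    {P : Scheme.{u}} (q : P ⟶ Spec (CommRingCat.of B)) [IsProper q] (S : Set P)
    (h1 : IsClosed (S ∩ q ⁻¹' {(closedPoint B : ↥(Spec (CommRingCat.of B)))}))
    (h2 : IsClosed (Sᶜ ∩ q ⁻¹' {(closedPoint B : ↥(Spec (CommRingCat.of B)))}))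
    (hpre : _root_.IsPreconnected {w : P | q w = genericPoint ↥(Spec (CommRingCat.of B)) ∧ w ∈ S})
    (hsub : ∀ W : Set P, IsOpen W → W ∩ S ≠ q ⁻¹' {(closedPoint B : ↥(Spec (CommRingCat.of B)))} ∩ S)
    (σ : Spec (CommRingCat.of B) ⟶ P) (hσ : σ ≫ q = 𝟙 _)
    (hg : σ (genericPoint ↥(Spec (CommRingCat.of B))) ∈ S) :
    σ (closedPoint B) ∈ S := by
  obtain ⟨D, hD, hDS⟩ := exists_clopen q S h1 h2
  have hqσ : ∀ t, q (σ t) = t := fun t => by
    rw [← Scheme.Hom.comp_apply, hσ]; rfl
  have hpt : ∀ t : ↥(Spec (CommRingCat.of B)), t = closedPoint B ∨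
      t = genericPoint ↥(Spec (CommRingCat.of B)) := by
    intro t
    let t' : PrimeSpectrum B := t
    by_cases h : t'.asIdeal = ⊥
    · right
      have h3 : (genericPoint ↥(Spec (CommRingCat.of B)) : PrimeSpectrum B) = t' := by
        have h4 : (genericPoint ↥(Spec (CommRingCat.of B))) ⤳ t := genericPoint_specializes t
        have h5 : (genericPoint ↥(Spec (CommRingCat.of B)) : PrimeSpectrum B).asIdeal ≤ t'.asIdeal :=
          (PrimeSpectrum.le_iff_specializes _ _).mpr h4
        apply PrimeSpectrum.ext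
        rw [h] at h5 ⊢
        exact le_bot_iff.mp h5
      exact h3.symm
    · left
      have h3 : t'.asIdeal = maximalIdeal B := by
        have : t'.asIdeal.IsMaximal := Ring.DimensionLEOne.maximalOfPrime h t'.2
        exact IsLocalRing.eq_maximalIdeal this
      have h4 : t' = closedPoint B := PrimeSpectrum.ext h3
      exact h4
  have hη : σ (genericPoint ↥(Spec (CommRingCat.of B))) ∈ D := by
    by_contra hn
    refine hsub D hD.isOpen ?_
    ext x
    constructor
    · rintro ⟨hxD, hxS⟩
      rcases hpt (q x) with h | h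
      · exact ⟨h, hxS⟩
      · exfalso
        have h3 := hpre.subset_isClopen hD ⟨x, ⟨h, hxS⟩, hxD⟩
        exact hn (h3 ⟨hqσ _, hg⟩)
    · rintro ⟨hx, hxS⟩
      exact ⟨(hDS x hx).mpr hxS, hxS⟩
  have hs : σ (genericPoint ↥(Spec (CommRingCat.of B))) ⤳ σ (closedPoint B) :=
    (genericPoint_specializes _).map σ.continuous
  exact (hDS _ (hqσ _)).mp (hs.mem_closed hD.isClosed hη)

/-- Specializations in a proper scheme of points of a fibrewise clopen submersive subset. -/
theorem mem_of_specializes {P Y : Scheme.{u}} (p : P ⟶ Y) [IsProper p] [IsLocallyNoetherian P]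
    (S : Set P) (z x : P) (hzx : z ⤳ x) (hz : z ∈ S)
    (hS1 : ∃ K : Set P, IsClosed K ∧ S ∩ p ⁻¹' {p x} = K ∩ p ⁻¹' {p x})
    (hS2 : ∃ O : Set P, IsOpen O ∧ S ∩ p ⁻¹' {p x} = O ∩ p ⁻¹' {p x})
    (hpre : ∀ (B : Type u) [CommRing B] [IsDomain B] [IsDiscreteValuationRing B]
      (g : Spec (CommRingCat.of B) ⟶ Y), g (closedPoint B) = p x →
      _root_.IsPreconnected {w : ↥(pullback p g) |
        pullback.snd p g w = genericPoint ↥(Spec (CommRingCat.of B)) ∧ pullback.fst p g w ∈ S})
    (hsub : ∀ (B : Type u) [CommRing B] [IsDomain B] [IsDiscreteValuationRing B]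
      (g : Spec (CommRingCat.of B) ⟶ Y), g (closedPoint B) = p x →
      ∀ W : Set ↥(pullback p g), IsOpen W → W ∩ pullback.fst p g ⁻¹' S ≠
        pullback.snd p g ⁻¹' {(closedPoint B : ↥(Spec (CommRingCat.of B)))} ∩
          pullback.fst p g ⁻¹' S) :
    x ∈ S := by
  by_cases hne : z = x
  · exact hne ▸ hz
  obtain ⟨R, _, _, _, _, _, g₀, hg1, hg2⟩ := DvrScheme.exists_dvr_of_specializes hzx hne
    (P.residueField z) (𝟙 _) (by
      change (RingHom.id _).EssFiniteType
      exact (RingHom.FiniteType.id _).essFiniteType)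
  obtain ⟨B, _, _, _, φ, e, hc, _, hφ, he⟩ := K891.CplDvrExt.exists_complete R (ResidueField R)
    (RingHom.id _)
  have hH : HenselianRing B (maximalIdeal B) := inferInstance
  have hloc : IsLocalHom φ := by
    refine ⟨fun a ha => ?_⟩
    by_contra hn
    have h1 : residue R a = 0 := (residue_eq_zero_iff a).mpr ((mem_maximalIdeal a).mpr hn)
    have h2 := congrArg (fun ψ : R →+* ResidueField B => ψ a) he
    simp only [RingHom.comp_apply, h1, map_zero] at h2
    exact (mem_maximalIdeal _).mp ((residue_eq_zero_iff _).mp h2.symm) ha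
  let g₁ : Spec (CommRingCat.of B) ⟶ P := Spec.map (CommRingCat.ofHom φ) ≫ g₀
  have hg₁c : g₁ (closedPoint B) = x := by
    have h0 : (Spec.map (CommRingCat.ofHom φ)) (closedPoint B) = closedPoint R :=
      IsLocalRing.comap_closedPoint φ
    exact (Scheme.Hom.comp_apply _ _ _).trans ((congrArg g₀ h0).trans hg1)
  have hbot : ∀ (A : Type u) [CommRing A] [IsDomain A],
      (genericPoint ↥(Spec (CommRingCat.of A)) : PrimeSpectrum A).asIdeal = ⊥ := by
    intro A _ _
    have h5 : (genericPoint ↥(Spec (CommRingCat.of A))) ⤳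
      ((⟨⊥, Ideal.isPrime_bot⟩ : PrimeSpectrum A) : ↥(Spec (CommRingCat.of A))) :=
      genericPoint_specializes _
    have h6 : (genericPoint ↥(Spec (CommRingCat.of A)) : PrimeSpectrum A).asIdeal ≤ ⊥ :=
      (PrimeSpectrum.le_iff_specializes _ _).mpr h5
    exact le_bot_iff.mp h6
  have hg₁g : g₁ (genericPoint ↥(Spec (CommRingCat.of B))) = z := by
    have h1 : (Spec.map (CommRingCat.ofHom φ)) (genericPoint ↥(Spec (CommRingCat.of B))) =
        (Spec.map (CommRingCat.ofHom (algebraMap R (P.residueField z))))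
          (closedPoint (P.residueField z)) := by
      apply PrimeSpectrum.ext
      change (genericPoint ↥(Spec (CommRingCat.of B)) : PrimeSpectrum B).asIdeal.comap φ =
        (maximalIdeal (P.residueField z)).comap (algebraMap R (P.residueField z))
      rw [hbot B, IsLocalRing.maximalIdeal_eq_bot]
      rw [← RingHom.ker_eq_comap_bot, ← RingHom.ker_eq_comap_bot,
        (RingHom.injective_iff_ker_eq_bot _).mp hφ,
        (RingHom.injective_iff_ker_eq_bot _).mp (IsFractionRing.injective R (P.residueField z))]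
    have h2 : g₀ ((Spec.map (CommRingCat.ofHom (algebraMap R (P.residueField z))))
          (closedPoint (P.residueField z))) = z := by
      have hg2' : Spec.map (CommRingCat.ofHom (algebraMap R ↑(P.residueField z))) ≫ g₀ =
          P.fromSpecResidueField z := by
        rw [hg2]
        erw [Spec.map_id, Category.id_comp]
      have h3 := congrArg (fun ψ : Spec (P.residueField z) ⟶ P => ψ (closedPoint (P.residueField z))) hg2'
      refine (Scheme.Hom.comp_apply _ _ _).symm.trans (h3.trans ?_)
      exact Scheme.fromSpecResidueField_apply _ _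
    exact (Scheme.Hom.comp_apply _ _ _).trans ((congrArg g₀ h1).trans h2)
  let g := g₁ ≫ p
  have hgc : g (closedPoint B) = p x :=
    (Scheme.Hom.comp_apply _ _ _).trans (congrArg p hg₁c)
  let σ : Spec (CommRingCat.of B) ⟶ pullback p g := pullback.lift g₁ (𝟙 _) (by simp [g])
  have hσ1 : ∀ t, pullback.fst p g (σ t) = g₁ t := fun t => by
    rw [← Scheme.Hom.comp_apply, pullback.lift_fst]
  have hfib : ∀ w : ↥(pullback p g), pullback.snd p g w = closedPoint B →
      p (pullback.fst p g w) = p x := by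
    intro w hw
    rw [← Scheme.Hom.comp_apply, pullback.condition, Scheme.Hom.comp_apply, hw]
    exact hgc
  have hcl : IsClosed {(closedPoint B : ↥(Spec (CommRingCat.of B)))} :=
    IsLocalRing.isClosed_singleton_closedPoint B
  have hcl' := hcl.preimage (pullback.snd p g).continuous
  obtain ⟨K, hK, hSK⟩ := hS1
  obtain ⟨O, hO, hSO⟩ := hS2
  have h1 : IsClosed ((pullback.fst p g ⁻¹' S) ∩ pullback.snd p g ⁻¹' {(closedPoint B : ↥(Spec (CommRingCat.of B)))}) := by
    have : (pullback.fst p g ⁻¹' S) ∩ pullback.snd p g ⁻¹' {(closedPoint B : ↥(Spec (CommRingCat.of B)))} =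
        (pullback.fst p g ⁻¹' K) ∩ pullback.snd p g ⁻¹' {(closedPoint B : ↥(Spec (CommRingCat.of B)))} := by
      ext w
      constructor
      · rintro ⟨hw1, hw2⟩
        have : pullback.fst p g w ∈ S ∩ p ⁻¹' {p x} := ⟨hw1, hfib w hw2⟩
        rw [hSK] at this
        exact ⟨this.1, hw2⟩
      · rintro ⟨hw1, hw2⟩
        have : pullback.fst p g w ∈ K ∩ p ⁻¹' {p x} := ⟨hw1, hfib w hw2⟩
        rw [← hSK] at this
        exact ⟨this.1, hw2⟩
    rw [this]
    exact (hK.preimage (pullback.fst p g).continuous).inter hcl'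
  have h2 : IsClosed ((pullback.fst p g ⁻¹' S)ᶜ ∩ pullback.snd p g ⁻¹' {(closedPoint B : ↥(Spec (CommRingCat.of B)))}) := by
    have : (pullback.fst p g ⁻¹' S)ᶜ ∩ pullback.snd p g ⁻¹' {(closedPoint B : ↥(Spec (CommRingCat.of B)))} =
        (pullback.fst p g ⁻¹' O)ᶜ ∩ pullback.snd p g ⁻¹' {(closedPoint B : ↥(Spec (CommRingCat.of B)))} := by
      ext w
      constructor
      · rintro ⟨hw1, hw2⟩
        refine ⟨fun hw3 => hw1 ?_, hw2⟩
        have : pullback.fst p g w ∈ O ∩ p ⁻¹' {p x} := ⟨hw3, hfib w hw2⟩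
        rw [← hSO] at this
        exact this.1
      · rintro ⟨hw1, hw2⟩
        refine ⟨fun hw3 => hw1 ?_, hw2⟩
        have : pullback.fst p g w ∈ S ∩ p ⁻¹' {p x} := ⟨hw3, hfib w hw2⟩
        rw [hSO] at this
        exact this.1
    rw [this]
    exact (hO.preimage (pullback.fst p g).continuous).isClosed_compl.inter hcl'
  have key := mem_of_section (pullback.snd p g) (pullback.fst p g ⁻¹' S) h1 h2
    (hpre B g hgc) (hsub B g hgc) σ (pullback.lift_snd _ _ _) (by
      rw [Set.mem_preimage, hσ1, hg₁g]; exact hz)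
  have key' : pullback.fst p g (σ (closedPoint B)) ∈ S := key
  have h3 : pullback.fst p g (σ (closedPoint B)) = x := (hσ1 _).trans hg₁c
  exact h3 ▸ key'

end K129.SubmClaim
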