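import Groth.Agent.EGA43.K129.SubmProper


/-!
# Properness at a point of a submersive constructible union of connected components of fibres
-/

set_option autoImplicit false
universe u

open AlgebraicGeometry CategoryTheory Limits IsLocalRing

namespace K129.SubmMain

open Groth.Agent.Ega4Fib.H176.SecDvr Groth.Agent.Ega4fib.H149.FibreTopLoc Groth.Agent.Ega43

/-- Sets in the open piece of the fibre. -/
theorem fibre_trace {X Y XV V : Scheme.{u}} {f : X ⟶ Y} {ιX : XV ⟶ X} {q : XV ⟶ V} {ιV : V ⟶ Y}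
    (hw : ιX ≫ f = q ≫ ιV) [IsOpenImmersion ιV] (y₁ : V) (A B : Set X)
    (h : A ∩ f ⁻¹' {ιV y₁} = B ∩ f ⁻¹' {ιV y₁}) :
    ιX ⁻¹' A ∩ q ⁻¹' {y₁} = ιX ⁻¹' B ∩ q ⁻¹' {y₁} := by
  have hfib : ∀ x : XV, q x = y₁ → f (ιX x) = ιV y₁ := by
    intro x hx
    rw [← Scheme.Hom.comp_apply, hw, Scheme.Hom.comp_apply, hx]
  ext w
  constructor
  · rintro ⟨h1, h2⟩
    have : ιX w ∈ A ∩ f ⁻¹' {ιV y₁} := ⟨h1, hfib w h2⟩
    rw [h] at this
    exact ⟨this.1, h2⟩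
  · rintro ⟨h1, h2⟩
    have : ιX w ∈ B ∩ f ⁻¹' {ιV y₁} := ⟨h1, hfib w h2⟩
    rw [← h] at this
    exact ⟨this.1, h2⟩

/-- Properness of the fibre over `y` gives closedness in the compactified fibre. -/
theorem exists_closed_trace {X Y XV V P : Scheme.{u}} {f : X ⟶ Y} {ιX : XV ⟶ X} {j : XV ⟶ P}
    {p : P ⟶ V} {ιV : V ⟶ Y} (hw : ιX ≫ f = (j ≫ p) ≫ ιV) [IsOpenImmersion ιX] [IsOpenImmersion ιV]
    (hr : Set.range ιX = f ⁻¹' Set.range ιV)
    [IsSeparated p] (Z : Set X) (y₀ : V) (hop : IsOpen ((f.fiberι (ιV y₀)) ⁻¹' Z))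
    (h2 : IsProper (Scheme.Opens.ι (⟨(f.fiberι (ιV y₀)) ⁻¹' Z, hop⟩ :
      (f.fiber (ιV y₀)).Opens) ≫ f.fiberToSpecResidueField (ιV y₀))) :
    ∃ K : Set P, IsClosed K ∧ j '' (ιX ⁻¹' Z) ∩ p ⁻¹' {y₀} = K ∩ p ⁻¹' {y₀} := by
  let T : (f.fiber (ιV y₀)).Opens := ⟨(f.fiberι (ιV y₀)) ⁻¹' Z, hop⟩
  have hT : IsProper (T.ι ≫ f.fiberToSpecResidueField (ιV y₀)) := h2
  have hfib : ∀ v, f (f.fiberι (ιV y₀) v) = ιV y₀ := fun v => by
    have : f.fiberι (ιV y₀) v ∈ f ⁻¹' {ιV y₀} := by rw [← f.range_fiberι]; exact ⟨_, rfl⟩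
    exact this
  have hTr : Set.range (T.ι ≫ f.fiberι (ιV y₀)) ⊆ Set.range ιX := by
    rw [hr]
    rintro _ ⟨t, rfl⟩
    rw [Scheme.Hom.comp_apply]
    exact ⟨y₀, (hfib _).symm⟩
  let t : (T : Scheme.{u}) ⟶ XV := IsOpenImmersion.lift ιX (T.ι ≫ f.fiberι (ιV y₀)) hTr
  have ht : t ≫ ιX = T.ι ≫ f.fiberι (ιV y₀) := IsOpenImmersion.lift_fac _ _ _
  let p₀ : P ⟶ Y := p ≫ ιV
  have hcomm : (t ≫ j) ≫ p₀ =
      (T.ι ≫ f.fiberToSpecResidueField (ιV y₀)) ≫ Y.fromSpecResidueField (ιV y₀) := by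
    have e1 : (t ≫ j) ≫ p₀ = t ≫ (j ≫ p) ≫ ιV := by simp only [p₀, Category.assoc]
    have e2 : f.fiberι (ιV y₀) ≫ f =
        f.fiberToSpecResidueField (ιV y₀) ≫ Y.fromSpecResidueField (ιV y₀) := pullback.condition
    rw [e1, ← hw, reassoc_of% ht, e2, Category.assoc]
  let m : (T : Scheme.{u}) ⟶ p₀.fiber (ιV y₀) :=
    pullback.lift (t ≫ j) (T.ι ≫ f.fiberToSpecResidueField (ιV y₀)) hcomm
  have hm1 : m ≫ p₀.fiberι (ιV y₀) = t ≫ j := pullback.lift_fst _ _ _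
  have hm2 : m ≫ p₀.fiberToSpecResidueField (ιV y₀) =
      T.ι ≫ f.fiberToSpecResidueField (ιV y₀) := pullback.lift_snd _ _ _
  have hp₀s : IsSeparated (p₀.fiberToSpecResidueField (ιV y₀)) :=
    inferInstanceAs (IsSeparated (pullback.snd p₀ _))
  have hm : IsProper m := by
    have : IsProper (m ≫ p₀.fiberToSpecResidueField (ιV y₀)) := by rw [hm2]; exact hT
    exact IsProper.of_comp m (p₀.fiberToSpecResidueField (ιV y₀))
  have hmr : IsClosed (Set.range m) := m.isClosedMap.isClosed_range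
  obtain ⟨K, hK1, hK2⟩ := (p₀.fiberι (ιV y₀)).isEmbedding.isInducing.isClosed_iff.mp hmr
  refine ⟨K, hK1, ?_⟩
  have hVinj : Function.Injective ιV := ιV.isOpenEmbedding.injective
  have hp₀ : ∀ w : P, p w = y₀ → p₀ w = ιV y₀ := by
    intro w hw
    rw [Scheme.Hom.comp_apply, hw]
  ext w
  constructor
  · rintro ⟨⟨x, hx, rfl⟩, hw'⟩
    refine ⟨?_, hw'⟩
    have hxy : f (ιX x) = ιV y₀ := by
      have : p (j x) = y₀ := hw'
      rw [← Scheme.Hom.comp_apply, hw, Scheme.Hom.comp_apply, Scheme.Hom.comp_apply, this]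
    obtain ⟨v, hv⟩ : ιX x ∈ Set.range (f.fiberι (ιV y₀)) := by rw [f.range_fiberι]; exact hxy
    have hvT : v ∈ T := by
      change f.fiberι (ιV y₀) v ∈ Z
      rw [hv]; exact hx
    obtain ⟨s, hs⟩ : v ∈ Set.range T.ι := by rw [Scheme.Opens.range_ι]; exact hvT
    have h5 : t s = x := by
      apply ιX.isOpenEmbedding.injective
      rw [← Scheme.Hom.comp_apply, ht, Scheme.Hom.comp_apply, ← hv, hs]
    have h6 : m s ∈ (p₀.fiberι (ιV y₀)) ⁻¹' K := by rw [hK2]; exact ⟨_, rfl⟩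
    have h7 : p₀.fiberι (ιV y₀) (m s) = j x := by
      rw [← Scheme.Hom.comp_apply, hm1, Scheme.Hom.comp_apply, h5]
    rw [← h7]; exact h6
  · rintro ⟨hwK, hw'⟩
    refine ⟨?_, hw'⟩
    obtain ⟨v, rfl⟩ : w ∈ Set.range (p₀.fiberι (ιV y₀)) := by
      rw [p₀.range_fiberι]; exact hp₀ w hw'
    have : v ∈ Set.range m := by rw [← hK2]; exact hwK
    obtain ⟨s, rfl⟩ := this
    refine ⟨t s, ?_, ?_⟩
    · change ιX (t s) ∈ Z
      rw [← Scheme.Hom.comp_apply, ht, Scheme.Hom.comp_apply]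
      exact s.2
    · rw [← Scheme.Hom.comp_apply, ← hm1, Scheme.Hom.comp_apply]

theorem exists_k {XV P V T : Scheme.{u}} (j : XV ⟶ P) (p : P ⟶ V) (g : T ⟶ V) :
    ∃ k : pullback (j ≫ p) g ⟶ pullback p g,
      k ≫ pullback.fst p g = pullback.fst (j ≫ p) g ≫ j ∧
      k ≫ pullback.snd p g = pullback.snd (j ≫ p) g ∧
      IsPullback (pullback.fst (j ≫ p) g) k j (pullback.fst p g) := by
  let k : pullback (j ≫ p) g ⟶ pullback p g :=
    pullback.lift (pullback.fst (j ≫ p) g ≫ j) (pullback.snd (j ≫ p) g)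
      (by rw [Category.assoc, pullback.condition])
  have hk1 : k ≫ pullback.fst p g = pullback.fst (j ≫ p) g ≫ j := pullback.lift_fst _ _ _
  have hk2 : k ≫ pullback.snd p g = pullback.snd (j ≫ p) g := pullback.lift_snd _ _ _
  refine ⟨k, hk1, hk2, ?_⟩
  refine IsPullback.of_bot ?_ hk1.symm (IsPullback.of_hasPullback p g)
  rw [hk2]
  exact IsPullback.of_hasPullback (j ≫ p) g

/-- The main theorem on a compactification over an open piece of the base. -/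
theorem exists_open_of_submersive {X Y XV V P : Scheme.{u}} {f : X ⟶ Y} {ιX : XV ⟶ X} {j : XV ⟶ P}
    {p : P ⟶ V} {ιV : V ⟶ Y} (hpb : IsPullback ιX (j ≫ p) f ιV) [IsOpenImmersion ιX]
    [IsOpenImmersion ιV] [IsOpenImmersion j] [QuasiCompact j] [IsProper p] [IsLocallyNoetherian P]
    [LocallyOfFinitePresentation p] [LocallyOfFiniteType f]
    (Z : Set X) (y₀ : V)
    (hZ : Topology.IsLocallyConstructible Z)
    (h1 : ∀ y' : Y, y' ⤳ ιV y₀ → (∃ x ∈ Z, f.base x = y' ∧ Z ∩ f.base ⁻¹' {y'} = connectedComponentIn (f.base ⁻¹' {y'}) x) ∧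
      ∀ (K : Type u) [Field K] [Algebra (IsLocalRing.ResidueField (Y.presheaf.stalk y')) K],
        _root_.IsPreconnected ((FBase.bcπ (f.fiberToSpecResidueField y') K ≫ f.fiberι y').base ⁻¹' Z))
    (hop : IsOpen ((f.fiberι (ιV y₀)).base ⁻¹' Z))
    (h2 : IsProper (Scheme.Opens.ι (⟨(f.fiberι (ιV y₀)).base ⁻¹' Z, hop⟩ :
      (f.fiber (ιV y₀)).Opens) ≫ f.fiberToSpecResidueField (ιV y₀)))
    (h3 : ∀ (Y' : Scheme.{u}) (h : Y' ⟶ Y) (E : Set Y'), E ⊆ h.base ⁻¹' (f.base '' Z) →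
      (∃ W : Set ↥(pullback f h), IsOpen W ∧
        W ∩ (pullback.fst f h).base ⁻¹' Z = (pullback.snd f h).base ⁻¹' E ∩ (pullback.fst f h).base ⁻¹' Z) →
      ∃ V : Set Y', IsOpen V ∧ V ∩ h.base ⁻¹' (f.base '' Z) = E) :
    ∃ U : Set V, IsOpen U ∧ y₀ ∈ U ∧
      ∀ x ∈ closure (j '' (ιX ⁻¹' Z)), p x ∈ U → x ∈ j '' (ιX ⁻¹' Z) := by
  have hcc : ∀ y₁, y₁ ⤳ y₀ → ∃ x, f x = ιV y₁ ∧
      Z ∩ f ⁻¹' {ιV y₁} = connectedComponentIn (f ⁻¹' {ιV y₁}) x := by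
    intro y₁ hy₁
    obtain ⟨x, -, hx1, hx2⟩ := (h1 _ (hy₁.map ιV.continuous)).1
    exact ⟨x, hx1, hx2⟩
  refine K129.SubmProper.exists_open j p (ιX ⁻¹' Z) y₀ ?_ ?_ ?_ ?_ ?_ ?_
  · exact j.isLocallyConstructible_image (hZ.preimage_of_isOpenEmbedding ιX.isOpenEmbedding)
  · intro y₁ hy₁
    obtain ⟨x, hfx, hc⟩ := hcc y₁ hy₁
    obtain ⟨⟨O, hO1, hO2⟩, -⟩ := exists_open_closed f (ιV y₁) x hfx
    exact ⟨ιX ⁻¹' O, hO1.preimage ιX.continuous, fibre_trace hpb.w y₁ Z O (hc.trans hO2)⟩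
  · intro y₁ hy₁
    obtain ⟨x, hfx, hc⟩ := hcc y₁ hy₁
    obtain ⟨-, ⟨O, hO1, hO2⟩⟩ := exists_open_closed f (ιV y₁) x hfx
    exact ⟨ιX ⁻¹' O, hO1.preimage ιX.continuous, fibre_trace hpb.w y₁ Z O (hc.trans hO2)⟩
  · have hr : Set.range ιX = f ⁻¹' Set.range ιV := by
      ext x
      constructor
      · rintro ⟨w, rfl⟩
        exact ⟨(j ≫ p) w, by rw [← Scheme.Hom.comp_apply, ← hpb.w, Scheme.Hom.comp_apply]⟩
      · rintro ⟨v, hv⟩
        obtain ⟨w, hw1, -⟩ := Scheme.exists_preimage_of_isPullback hpb x v hv.symm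
        exact ⟨w, hw1⟩
    exact exists_closed_trace hpb.w hr Z y₀ hop h2
  · intro B _ _ _ g hg
    have hgη : (g ≫ ιV) (genericPoint ↥(Spec (CommRingCat.of B))) ⤳ ιV y₀ := by
      rw [Scheme.Hom.comp_apply]
      exact (((genericPoint_specializes _).map g.continuous).trans hg).map ιV.continuous
    obtain ⟨k, hk1, hk2, hk3⟩ := exists_k j p g
    have hpb' := (IsPullback.of_hasPullback (j ≫ p) g).paste_horiz hpb
    have h5 := K129.SubmProper.isPreconnected_ov hpb'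
      (genericPoint ↥(Spec (CommRingCat.of B))) Z (h1 _ hgη).2
    have h6 := h5.image k k.continuous.continuousOn
    convert h6
    ext w
    constructor
    · rintro ⟨hw1, x, hx, hxw⟩
      obtain ⟨v, hv1, hv2⟩ := Scheme.exists_preimage_of_isPullback hk3 x w hxw
      refine ⟨v, ⟨?_, ?_⟩, hv2⟩
      · rw [← hk2, Scheme.Hom.comp_apply, hv2]; exact hw1
      · rw [Scheme.Hom.comp_apply, hv1]; exact hx
    · rintro ⟨v, ⟨hv1, hv2⟩, rfl⟩
      refine ⟨?_, pullback.fst (j ≫ p) g v, ?_, ?_⟩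
      · rw [← Scheme.Hom.comp_apply, hk2]; exact hv1
      · rw [Scheme.Hom.comp_apply] at hv2; exact hv2
      · rw [← Scheme.Hom.comp_apply, ← hk1, Scheme.Hom.comp_apply]
  · intro B _ _ _ g hg W hW hWS
    obtain ⟨k, hk1, hk2, hk3⟩ := exists_k j p g
    have hpb' := (IsPullback.of_hasPullback (j ≫ p) g).paste_horiz hpb
    let e := hpb'.isoPullback
    have he1 : e.inv ≫ pullback.fst (j ≫ p) g ≫ ιX = pullback.fst f (g ≫ ιV) := by
      rw [Iso.inv_comp_eq]; exact hpb'.isoPullback_hom_fst.symm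
    have he2 : e.inv ≫ pullback.snd (j ≫ p) g = pullback.snd f (g ≫ ιV) := by
      rw [Iso.inv_comp_eq]; exact hpb'.isoPullback_hom_snd.symm
    let s : ↥(Spec (CommRingCat.of B)) := closedPoint B
    have hin : ∀ t : ↥(Spec (CommRingCat.of B)), g t ⤳ y₀ →
        t ∈ (g ≫ ιV) ⁻¹' (f '' Z) := by
      intro t ht
      obtain ⟨x, hxZ, hx, -⟩ := (h1 _ (ht.map ιV.continuous)).1
      refine ⟨x, hxZ, ?_⟩
      rw [Scheme.Hom.comp_apply]; exact hx
    obtain ⟨V₁, hV₁, hV₁2⟩ := h3 (Spec (CommRingCat.of B)) (g ≫ ιV) {s} (by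
        rintro t rfl
        exact hin s hg)
      (by
        refine ⟨(e.inv ≫ k) ⁻¹' W, hW.preimage (e.inv ≫ k).continuous, ?_⟩
        have hmem : ∀ w : ↥(pullback f (g ≫ ιV)), pullback.fst f (g ≫ ιV) w ∈ Z ↔
            (e.inv ≫ k) w ∈ pullback.fst p g ⁻¹' (j '' (ιX ⁻¹' Z)) := by
          intro w
          have a1 : pullback.fst f (g ≫ ιV) w = ιX (pullback.fst (j ≫ p) g (e.inv w)) := by
            rw [← he1, Scheme.Hom.comp_apply, Scheme.Hom.comp_apply]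
          have a2 : pullback.fst p g ((e.inv ≫ k) w) = j (pullback.fst (j ≫ p) g (e.inv w)) := by
            rw [Scheme.Hom.comp_apply, ← Scheme.Hom.comp_apply k, hk1, Scheme.Hom.comp_apply]
          rw [Set.mem_preimage, a1, a2]
          constructor
          · intro h; exact ⟨_, h, rfl⟩
          · rintro ⟨x, hx, hxe⟩
            rw [← j.isOpenEmbedding.injective hxe]; exact hx
        have hsnd : ∀ w : ↥(pullback f (g ≫ ιV)), pullback.snd f (g ≫ ιV) w =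
            pullback.snd p g ((e.inv ≫ k) w) := by
          intro w
          rw [← he2, Scheme.Hom.comp_apply, Scheme.Hom.comp_apply, ← Scheme.Hom.comp_apply k, hk2]
        ext w
        have hw : (e.inv ≫ k) w ∈ W ∩ pullback.fst p g ⁻¹' (j '' (ιX ⁻¹' Z)) ↔
            (e.inv ≫ k) w ∈ pullback.snd p g ⁻¹' {(closedPoint B : ↥(Spec (CommRingCat.of B)))} ∩
              pullback.fst p g ⁻¹' (j '' (ιX ⁻¹' Z)) := by rw [hWS]
        constructor
        · rintro ⟨hw1, hw2⟩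
          have := hw.mp ⟨hw1, (hmem w).mp hw2⟩
          refine ⟨?_, hw2⟩
          change pullback.snd f (g ≫ ιV) w ∈ ({s} : Set _)
          rw [hsnd]; exact this.1
        · rintro ⟨hw1, hw2⟩
          have := hw.mpr ⟨by
            have h7 : pullback.snd f (g ≫ ιV) w ∈ ({s} : Set _) := hw1
            rw [hsnd] at h7; exact h7, (hmem w).mp hw2⟩
          exact ⟨this.1, hw2⟩)
    have hs : s ∈ V₁ := by
      have : s ∈ V₁ ∩ (g ≫ ιV) ⁻¹' (f '' Z) := by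
        have h8 : s ∈ ({s} : Set ↥(Spec (CommRingCat.of B))) := rfl
        rw [← hV₁2] at h8; exact h8
      exact this.1
    have hη : genericPoint ↥(Spec (CommRingCat.of B)) ∈ V₁ ∩ (g ≫ ιV) ⁻¹' (f '' Z) :=
      ⟨(genericPoint_specializes s).mem_open hV₁ hs,
        hin _ (((genericPoint_specializes s).map g.continuous).trans hg)⟩
    have hη' : genericPoint ↥(Spec (CommRingCat.of B)) ∈ ({s} : Set ↥(Spec (CommRingCat.of B))) := by
      rw [← hV₁2]; exact hη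
    have h9 : genericPoint ↥(Spec (CommRingCat.of B)) = s := hη'
    have h10 : (s : ↥(Spec (CommRingCat.of B))) ⤳
        ((⟨⊥, Ideal.isPrime_bot⟩ : PrimeSpectrum B) : ↥(Spec (CommRingCat.of B))) := by
      rw [← h9]; exact genericPoint_specializes _
    have h11 : maximalIdeal B ≤ ⊥ := (PrimeSpectrum.le_iff_specializes _ _).mpr h10
    exact IsDiscreteValuationRing.not_a_field B (le_bot_iff.mp h11)

/-- From the compactification to properness at a point. -/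
theorem proper_of_open {X Y XV V P : Scheme.{u}} {f : X ⟶ Y} {ιX : XV ⟶ X} {j : XV ⟶ P}
    {p : P ⟶ V} {ιV : V ⟶ Y} (hpb : IsPullback ιX (j ≫ p) f ιV) [IsOpenImmersion ιX]
    [IsOpenImmersion ιV] [IsOpenImmersion j] [IsProper p] [IsSeparated f] [LocallyOfFiniteType f]
    (Z : Set X) (y₀ : V) (U : Set V) (hU : IsOpen U) (hy₀ : y₀ ∈ U)
    (h : ∀ x ∈ closure (j '' (ιX ⁻¹' Z)), p x ∈ U → x ∈ j '' (ιX ⁻¹' Z)) :
    ∃ U : Y.Opens, ιV y₀ ∈ U ∧ ∃ hC : IsClosed ((f ⁻¹ᵁ U).ι.base ⁻¹' Z),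
      IsProper ((Scheme.IdealSheafData.vanishingIdeal
        (⟨(f ⁻¹ᵁ U).ι.base ⁻¹' Z, hC⟩ : TopologicalSpace.Closeds ↥(f ⁻¹ᵁ U))).subschemeι ≫ (f ∣_ U)) := by
  let U' : V.Opens := ⟨U, hU⟩
  let C : TopologicalSpace.Closeds P := ⟨closure (j '' (ιX ⁻¹' Z)), isClosed_closure⟩
  let i := (Scheme.IdealSheafData.vanishingIdeal C).subschemeι
  have hi : Set.range i = closure (j '' (ιX ⁻¹' Z)) := by
    rw [Scheme.IdealSheafData.range_subschemeι]
    exact Scheme.IdealSheafData.coe_support_vanishingIdeal C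
  let D := (i ≫ p) ⁻¹ᵁ U'
  have hDr : Set.range (D.ι ≫ i) ⊆ Set.range j := by
    rintro _ ⟨d, rfl⟩
    rw [Scheme.Hom.comp_apply]
    have h1 : p (i (D.ι d)) ∈ U := by
      rw [← Scheme.Hom.comp_apply i p]
      exact d.2
    obtain ⟨x, -, hx⟩ := h _ (by rw [← hi]; exact ⟨_, rfl⟩) h1
    exact ⟨x, hx⟩
  let a' : (D : Scheme.{u}) ⟶ XV := IsOpenImmersion.lift j (D.ι ≫ i) hDr
  have ha' : a' ≫ j = D.ι ≫ i := IsOpenImmersion.lift_fac _ _ _
  let e := ιV.isoImage U'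
  let b : (D : Scheme.{u}) ⟶ ((ιV ''ᵁ U' : Y.Opens) : Scheme.{u}) := ((i ≫ p) ∣_ U') ≫ e.hom
  have hb : IsProper b := by
    have : IsProper (i ≫ p) := inferInstance
    have : IsProper ((i ≫ p) ∣_ U') := inferInstance
    exact inferInstance
  have hab : (a' ≫ ιX) ≫ f = b ≫ (ιV ''ᵁ U' : Y.Opens).ι := by
    have e1 : e.hom ≫ (ιV ''ᵁ U' : Y.Opens).ι = U'.ι ≫ ιV := Scheme.Hom.isoImage_hom_ι _ _
    have e2 : b ≫ (ιV ''ᵁ U' : Y.Opens).ι = ((i ≫ p) ∣_ U') ≫ U'.ι ≫ ιV := by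
      rw [← e1]; exact Category.assoc _ _ _
    rw [e2, ← Category.assoc ((i ≫ p) ∣_ U'), morphismRestrict_ι, Category.assoc, hpb.w,
      Category.assoc, reassoc_of% ha', Category.assoc, Category.assoc]
  refine ⟨ιV ''ᵁ U', ⟨y₀, hy₀, rfl⟩, ?_⟩
  refine K129.ProperAt.of_proper_cover f Z (ιV ''ᵁ U') (a' ≫ ιX) b hab ?_
  ext x
  constructor
  · rintro ⟨d, rfl⟩
    have h1 : p (i (D.ι d)) ∈ U := by
      rw [← Scheme.Hom.comp_apply i p]
      exact d.2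
    obtain ⟨x, hx, hxe⟩ := h _ (by rw [← hi]; exact ⟨_, rfl⟩) h1
    have h2 : j (a' d) = i (D.ι d) := by
      rw [← Scheme.Hom.comp_apply, ha', Scheme.Hom.comp_apply]
    have h3 : x = a' d := j.isOpenEmbedding.injective (hxe.trans h2.symm)
    refine ⟨?_, ?_⟩
    · rw [Scheme.Hom.comp_apply, ← h3]; exact hx
    · refine ⟨p (i (D.ι d)), h1, ?_⟩
      have h4 : f ((a' ≫ ιX) d) = ιV (p (i (D.ι d))) := by
        rw [Scheme.Hom.comp_apply, ← Scheme.Hom.comp_apply ιX f, hpb.w, Scheme.Hom.comp_apply,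
          Scheme.Hom.comp_apply, h2]
      exact h4.symm
  · rintro ⟨hxZ, ⟨v, hvU, hv⟩⟩
    obtain ⟨w, hw1, hw2⟩ := Scheme.exists_preimage_of_isPullback hpb x v hv.symm
    have h1 : j w ∈ Set.range i := by
      rw [hi]; exact subset_closure ⟨w, by rw [Set.mem_preimage, hw1]; exact hxZ, rfl⟩
    obtain ⟨c, hc⟩ := h1
    have hcD : c ∈ D := by
      change (i ≫ p) c ∈ U
      rw [Scheme.Hom.comp_apply, hc, ← Scheme.Hom.comp_apply, hw2]
      exact hvU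
    obtain ⟨d, rfl⟩ : c ∈ Set.range D.ι := by rw [Scheme.Opens.range_ι]; exact hcD
    refine ⟨d, ?_⟩
    have h2 : j (a' d) = j w := by
      rw [← Scheme.Hom.comp_apply, ha', Scheme.Hom.comp_apply, hc]
    rw [Scheme.Hom.comp_apply, j.isOpenEmbedding.injective h2, hw1]

end K129.SubmMain
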