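import Groth.Agent.EGA43.K129.SubmClaim
import Groth.Agent.EGA43.K129.ProperAt
import Groth.Agent.Ega4Fib.H176.SecDvr
import Groth.Agent.Ega4fib.H149.FibreTopLoc
import Groth.Agent.S0384

/-!
# Properness at a point of a constructible union of connected components of the fibres
-/

set_option autoImplicit false
universe u

open AlgebraicGeometry CategoryTheory Limits IsLocalRing

namespace K129.SubmProper

open Groth.Agent.Ega4Fib.H176.SecDvr Groth.Agent.Ega4fib.H149.FibreTopLoc Groth.Agent.Ega43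

/-- Closedness over a neighbourhood of `y` of the image of `Z` in a compactification. -/
theorem exists_open {X P V : Scheme.{u}} [IsLocallyNoetherian P] (j : X ⟶ P)
    [IsOpenImmersion j] (p : P ⟶ V) [IsProper p] [LocallyOfFinitePresentation p] (Z : Set X) (y : V)
    (hS : Topology.IsLocallyConstructible (j '' Z))
    (hO : ∀ y', y' ⤳ y → ∃ O : Set X, IsOpen O ∧
      Z ∩ (j ≫ p) ⁻¹' {y'} = O ∩ (j ≫ p) ⁻¹' {y'})
    (hK : ∀ y', y' ⤳ y → ∃ K : Set X, IsClosed K ∧
      Z ∩ (j ≫ p) ⁻¹' {y'} = K ∩ (j ≫ p) ⁻¹' {y'})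
    (hcl : ∃ K : Set P, IsClosed K ∧ j '' Z ∩ p ⁻¹' {y} = K ∩ p ⁻¹' {y})
    (hpre : ∀ (B : Type u) [CommRing B] [IsDomain B] [IsDiscreteValuationRing B]
      (g : Spec (CommRingCat.of B) ⟶ V), g (closedPoint B) ⤳ y →
      _root_.IsPreconnected {w : ↥(pullback p g) |
        pullback.snd p g w = genericPoint ↥(Spec (CommRingCat.of B)) ∧
          pullback.fst p g w ∈ j '' Z})
    (hsub : ∀ (B : Type u) [CommRing B] [IsDomain B] [IsDiscreteValuationRing B]
      (g : Spec (CommRingCat.of B) ⟶ V), g (closedPoint B) ⤳ y →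
      ∀ W : Set ↥(pullback p g), IsOpen W → W ∩ pullback.fst p g ⁻¹' (j '' Z) ≠
        pullback.snd p g ⁻¹' {(closedPoint B : ↥(Spec (CommRingCat.of B)))} ∩
          pullback.fst p g ⁻¹' (j '' Z)) :
    ∃ U : Set V, IsOpen U ∧ y ∈ U ∧ ∀ x ∈ closure (j '' Z), p x ∈ U → x ∈ j '' Z := by
  have hjp : ∀ x, (j ≫ p) x = p (j x) := fun x => Scheme.Hom.comp_apply _ _ _
  -- openness in the fibres
  have hO' : ∀ y', y' ⤳ y → ∃ O : Set P, IsOpen O ∧ j '' Z ∩ p ⁻¹' {y'} = O ∩ p ⁻¹' {y'} := by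
    intro y' hy'
    obtain ⟨O, hO1, hO2⟩ := hO y' hy'
    refine ⟨j '' O, j.isOpenEmbedding.isOpenMap _ hO1, ?_⟩
    ext w
    constructor
    · rintro ⟨⟨x, hx, rfl⟩, hw⟩
      have : x ∈ Z ∩ (j ≫ p) ⁻¹' {y'} := ⟨hx, (hjp x).trans hw⟩
      rw [hO2] at this
      exact ⟨⟨x, this.1, rfl⟩, hw⟩
    · rintro ⟨⟨x, hx, rfl⟩, hw⟩
      have : x ∈ O ∩ (j ≫ p) ⁻¹' {y'} := ⟨hx, (hjp x).trans hw⟩
      rw [← hO2] at this
      exact ⟨⟨x, this.1, rfl⟩, hw⟩
  -- the fibre of the closure over generizations of `y` lies in `X`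
  have hX : ∀ b ∈ closure (j '' Z), p b ⤳ y → b ∈ Set.range j := by
    intro b hb hby
    obtain ⟨z, hz, hzb⟩ := OpenAt.exists_specializes_of_isLocallyConstructible hS hb
    have h1 : IsClosed (p '' closure {b}) := p.isClosedMap _ isClosed_closure
    have h2 : y ∈ p '' closure {b} := hby.mem_closed h1 ⟨b, subset_closure rfl, rfl⟩
    obtain ⟨b₀, hb₀, hb₀y⟩ := h2
    have hbb₀ : b ⤳ b₀ := specializes_iff_mem_closure.mpr hb₀
    have h3 : b₀ ∈ j '' Z := by
      refine SubmClaim.mem_of_specializes p (j '' Z) z b₀ (hzb.trans hbb₀) hz ?_ ?_ ?_ ?_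
      · rw [hb₀y]; exact hcl
      · rw [hb₀y]; exact hO' y specializes_rfl
      · intro B _ _ _ g hg
        exact hpre B g (by rw [hg, hb₀y])
      · intro B _ _ _ g hg
        exact hsub B g (by rw [hg, hb₀y])
    obtain ⟨x₀, -, hx₀⟩ := h3
    exact hbb₀.mem_open j.isOpenEmbedding.isOpen_range ⟨x₀, hx₀⟩
  have hK' : ∀ y', y' ⤳ y → ∃ K : Set P, IsClosed K ∧ j '' Z ∩ p ⁻¹' {y'} = K ∩ p ⁻¹' {y'} := by
    intro y' hy'
    obtain ⟨K, hK1, hK2⟩ := hK y' hy'
    refine ⟨closure (j '' Z ∩ p ⁻¹' {y'}), isClosed_closure, ?_⟩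
    ext w
    constructor
    · intro hw
      exact ⟨subset_closure hw, hw.2⟩
    · rintro ⟨hw1, hw2⟩
      refine ⟨?_, hw2⟩
      have hw3 : w ∈ Set.range j := by
        refine hX w (closure_mono Set.inter_subset_left hw1) ?_
        have : p w = y' := hw2
        rw [this]; exact hy'
      obtain ⟨x, rfl⟩ := hw3
      have hxK : x ∈ K := by
        have h4 : j ⁻¹' closure (j '' Z ∩ p ⁻¹' {y'}) ⊆ K := by
          rw [j.isOpenEmbedding.isOpenMap.preimage_closure_eq_closure_preimage j.continuous]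
          refine closure_minimal ?_ hK1
          rintro x' ⟨⟨x'', hx'', he⟩, hx'2⟩
          have : x'' = x' := j.isOpenEmbedding.injective he
          subst this
          have : x'' ∈ Z ∩ (j ≫ p) ⁻¹' {y'} := ⟨hx'', (hjp x'').trans hx'2⟩
          rw [hK2] at this
          exact this.1
        exact h4 hw1
      have : x ∈ K ∩ (j ≫ p) ⁻¹' {y'} := ⟨hxK, (hjp x).trans hw2⟩
      rw [← hK2] at this
      exact ⟨x, this.1, rfl⟩
  have hmain : ∀ x ∈ closure (j '' Z), p x ⤳ y → x ∈ j '' Z := by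
    intro x hx hxy
    obtain ⟨z, hz, hzx⟩ := OpenAt.exists_specializes_of_isLocallyConstructible hS hx
    refine SubmClaim.mem_of_specializes p (j '' Z) z x hzx hz (hK' _ hxy) (hO' _ hxy) ?_ ?_
    · intro B _ _ _ g hg
      exact hpre B g (by rw [hg]; exact hxy)
    · intro B _ _ _ g hg
      exact hsub B g (by rw [hg]; exact hxy)
  have hE : Topology.IsLocallyConstructible (p '' (closure (j '' Z) ∩ (j '' Z)ᶜ)) :=
    p.isLocallyConstructible_image
      ((isLocallyConstructible_of_isClosed isClosed_closure).inter (isLocallyConstructible_compl hS))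
  refine ⟨(closure (p '' (closure (j '' Z) ∩ (j '' Z)ᶜ)))ᶜ, isClosed_closure.isOpen_compl, ?_, ?_⟩
  · intro hy
    obtain ⟨e, ⟨x, ⟨hx1, hx2⟩, rfl⟩, hey⟩ := OpenAt.exists_specializes_of_isLocallyConstructible hE hy
    exact hx2 (hmain x hx1 hey)
  · intro x hx hxU
    by_contra hn
    exact hxU (subset_closure ⟨x, ⟨hx, hn⟩, rfl⟩)

/-- Geometric connectedness gives connectedness after any base change. -/
theorem isPreconnected_ov {X Y P T : Scheme.{u}} {p : P ⟶ X} {q : P ⟶ T} {f : X ⟶ Y} {g : T ⟶ Y}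
    (h : IsPullback p q f g) (t : T) (C : Set X)
    (hgi : ∀ (K : Type u) [Field K] [Algebra (IsLocalRing.ResidueField (Y.presheaf.stalk (g t))) K],
      _root_.IsPreconnected
        ((FBase.bcπ (f.fiberToSpecResidueField (g t)) K ≫ f.fiberι (g t)).base ⁻¹' C)) :
    _root_.IsPreconnected (ov p q C t) := by
  let : Algebra (IsLocalRing.ResidueField (Y.presheaf.stalk (g t))) (T.residueField t) :=
    (g.residueFieldMap t).hom.toAlgebra
  let b : q.fiber t ⟶ f.fiber (g t) :=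
    pullback.map q (T.fromSpecResidueField t) f (Y.fromSpecResidueField (g t)) p
      (Spec.map (g.residueFieldMap t)) g h.w.symm (by simp)
  have h1 : IsPullback b (q.fiberToSpecResidueField t) (f.fiberToSpecResidueField (g t))
      (Spec.map (g.residueFieldMap t)) := isPullback_fiberToSpecResidueField_of_isPullback h t
  have hbι : b ≫ f.fiberι (g t) = q.fiberι t ≫ p := pullback.lift_fst _ _ _
  have h2 := hgi (T.residueField t)
  let e : q.fiber t ≅ FBase.bc (f.fiberToSpecResidueField (g t)) (T.residueField t) := h1.isoPullback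
  have he : e.hom ≫ FBase.bcπ (f.fiberToSpecResidueField (g t)) (T.residueField t) = b :=
    h1.isoPullback_hom_fst
  have h3 := h2.image (e.inv ≫ q.fiberι t) (e.inv ≫ q.fiberι t).continuous.continuousOn
  have hcomm : ∀ v : q.fiber t, (FBase.bcπ (f.fiberToSpecResidueField (g t)) (T.residueField t) ≫
      f.fiberι (g t)) (e.hom v) = p (q.fiberι t v) := by
    intro v
    rw [← Scheme.Hom.comp_apply, ← Scheme.Hom.comp_apply, ← Category.assoc, he, hbι]
  have hinv : ∀ v : q.fiber t, e.inv (e.hom v) = v := fun v => by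
    rw [← Scheme.Hom.comp_apply, e.hom_inv_id]; rfl
  have hhom : ∀ v, e.hom (e.inv v) = v := fun v => by
    rw [← Scheme.Hom.comp_apply, e.inv_hom_id]; rfl
  convert h3
  ext w
  constructor
  · rintro ⟨hw1, hw2⟩
    obtain ⟨v, rfl⟩ : w ∈ Set.range (q.fiberι t) := by rw [q.range_fiberι]; exact hw1
    refine ⟨e.hom v, ?_, ?_⟩
    · change (FBase.bcπ (f.fiberToSpecResidueField (g t)) (T.residueField t) ≫
        f.fiberι (g t)) (e.hom v) ∈ C
      rw [hcomm]; exact hw2
    · rw [Scheme.Hom.comp_apply, hinv]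
  · rintro ⟨v, hv, rfl⟩
    obtain ⟨v, rfl⟩ : ∃ v', e.hom v' = v := ⟨e.inv v, hhom v⟩
    rw [Scheme.Hom.comp_apply, hinv]
    refine ⟨?_, ?_⟩
    · have : q.fiberι t v ∈ q ⁻¹' {t} := by rw [← q.range_fiberι]; exact ⟨v, rfl⟩
      exact this
    · rw [← hcomm]; exact hv

end K129.SubmProper
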